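import Cfsg.Agent.Lib.Blocks.SmallRankTwo.Sections
import Cfsg.Agent.Lib.Blocks.FourDefect
import Cfsg.Agent.Lib.Blocks.DihedralDefect
import Cfsg.Agent.Lib.Blocks.QuotientDefect
import Cfsg.Agent.Lib.Blocks.NormalBlocks
import Cfsg.Agent.Lib.CharApps.AbelianDefectBound.QuotientRank
import Cfsg.Agent.Lib.Classical.Dihedral
import Cfsg.Prelude.Def_CaseTheorems

/-!
# A central involution under a dihedral or semidihedral defect group leaves at most two Brauer characters
-/

set_option autoImplicit false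
set_option linter.unusedSectionVars false
set_option linter.style.haveILetI false

namespace CfsgLib.Blocks.SmallRankTwo

open Cfsg Chars BlockOrth Involutions

universe u

variable {G : Type u} [Group G]

/-- Generators of a dihedral or semidihedral subgroup. -/
structure Gens (D : Subgroup G) where
  m : ℕ
  two_le : 2 ≤ m
  x : G
  y : G
  s : ℤ
  x_mem : x ∈ D
  y_mem : y ∈ D
  orderOf_x : orderOf x = 2 ^ m
  orderOf_y : orderOf y = 2
  y_not : y ∉ Subgroup.zpowers x
  conj_y : y * x * y⁻¹ = x ^ s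
  s_add : ((2 ^ (m - 1) : ℕ) : ℤ) ∣ s + 1
  s_sub : ¬ ((2 ^ m : ℕ) : ℤ) ∣ s - 1
  card_eq : Nat.card D = 2 ^ (m + 1)
  cover : ∀ g ∈ D, (∃ i : ℤ, g = x ^ i) ∨ ∃ i : ℤ, g = x ^ i * y

theorem nonempty_gens [Finite G] {D : Subgroup G}
    (h : (∃ n : ℕ, 3 ≤ n ∧ Nonempty (D ≃* DihedralGroup (2 ^ (n - 1)))) ∨ Cfsg.IsQuasiDihedral D) :
    Nonempty (Gens D) := by
  have key : ∀ (m : ℕ) (x y : D) (s : ℤ), 2 ≤ m → orderOf x = 2 ^ m → orderOf y = 2 → y * x * y⁻¹ = x ^ s →
      ((2 ^ (m - 1) : ℕ) : ℤ) ∣ s + 1 → ¬ ((2 ^ m : ℕ) : ℤ) ∣ s - 1 → Nat.card D = 2 ^ (m + 1) →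
      Nonempty (Gens D) := by
    intro m x y s hm hx hy hc hs hs1 hcard
    have hyx : y ∉ Subgroup.zpowers x := by
      rintro ⟨i, rfl⟩
      rw [show x ^ i * x * (x ^ i)⁻¹ = x ^ (1 : ℤ) by group, zpow_eq_zpow_iff_modEq, hx, Int.modEq_iff_dvd] at hc
      exact hs1 hc
    have hidx : (Subgroup.zpowers x).index = 2 := by
      have h1 := (Subgroup.zpowers x).card_mul_index
      rw [Nat.card_zpowers, hx, hcard, pow_succ] at h1
      exact Nat.eq_of_mul_eq_mul_left (by positivity) h1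
    refine ⟨⟨m, hm, x, y, s, x.2, y.2, by rw [Subgroup.orderOf_coe, hx], by rw [Subgroup.orderOf_coe, hy],
      fun ⟨i, hi⟩ => hyx ⟨i, Subtype.ext hi⟩, congrArg Subtype.val hc, hs, hs1, hcard, fun g hg => ?_⟩⟩
    by_cases hgx : (⟨g, hg⟩ : D) ∈ Subgroup.zpowers x
    · obtain ⟨i, hi⟩ := hgx
      exact Or.inl ⟨i, (congrArg Subtype.val hi).symm⟩
    · obtain ⟨i, hi⟩ := (Subgroup.mul_mem_iff_of_index_two hidx (a := (⟨g, hg⟩ : D)) (b := y⁻¹)).2
        (by simp [hgx, hyx])
      refine Or.inr ⟨i, ?_⟩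
      have := congrArg Subtype.val hi
      simp only [Subgroup.coe_mul, Subgroup.coe_inv] at this
      rw [show ((x : G) ^ i) = g * (y : G)⁻¹ from (SubgroupClass.coe_zpow x i).symm.trans this,
        inv_mul_cancel_right]
  rcases h with ⟨n, hn, ⟨e⟩⟩ | ⟨n, hn, hcard, x, y, hx, hy, hc⟩
  · haveI : NeZero (2 ^ (n - 1)) := ⟨(Nat.two_pow_pos _).ne'⟩
    refine key (n - 1) (e.symm (DihedralGroup.r 1)) (e.symm (DihedralGroup.sr 0)) (-1) (by omega) ?_ ?_ ?_ (by simp) ?_ ?_
    · rw [MulEquiv.orderOf_eq, DihedralGroup.orderOf_r_one]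
    · rw [MulEquiv.orderOf_eq, DihedralGroup.orderOf_sr]
    · apply e.injective
      simp
    · intro h
      rw [show (-1 : ℤ) - 1 = -2 from rfl, Int.dvd_neg] at h
      have := Int.le_of_dvd two_pos h
      have h4 : 2 ^ 2 ≤ 2 ^ (n - 1) := Nat.pow_le_pow_right two_pos (by omega)
      omega
    · rw [Nat.card_congr e.toEquiv, DihedralGroup.nat_card, ← pow_succ']
  · refine key n x y ((2 ^ (n - 1) - 1 : ℕ) : ℤ) (by omega) hx hy (by rw [zpow_natCast]; exact hc) ?_ ?_ hcard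
    · rw [Nat.cast_sub Nat.one_le_two_pow, Nat.cast_one, sub_add_cancel]
    · intro h
      have h2 : 2 ^ n = 2 * 2 ^ (n - 1) := by rw [← pow_succ']; congr 1; omega
      have h4 : 2 ^ 2 ≤ 2 ^ (n - 1) := Nat.pow_le_pow_right two_pos (by omega)
      have := Int.le_of_dvd (by omega) h
      omega

variable [Fintype G] {M : Ideal AlgInt} [M.IsPrime] [Fact (Nat.Prime 2)]

/-- **A central involution bounds the number of Brauer characters by two.** -/
theorem blockRank_le_two_of_central (hM : IsPModular 2 M) {B : Set (IrrCharacter G)} (hB : IsPBlock M B)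
    {D : Subgroup G} (hD : IsDefectGroup 2 M B D) (q : Gens D) {z : G} (hzc : z ∈ Subgroup.center G)
    (hz : orderOf z = 2) : blockRank 2 B ≤ 2 := by
  classical
  haveI := irrFintype G
  have hpM : ((2 : ℕ) : AlgInt) ∈ M := hM.2.2
  set N := Subgroup.zpowers z
  have hNc : N ≤ Subgroup.center G := Subgroup.zpowers_le.2 hzc
  haveI : N.Normal := ⟨fun n hn g => by
    rw [(Subgroup.mem_center_iff.1 (hNc hn) g), mul_inv_cancel_right]
    exact hn⟩
  haveI := Fintype.ofFinite (G ⧸ N)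
  have hN2 : IsPGroup 2 N := IsPGroup.of_card (n := 1) (by rw [Nat.card_zpowers, hz, pow_one])
  have hzD : z ∈ D := CfsgLib.Blocks.IsDefectGroup.normal_le hpM hB hD hN2 (Subgroup.mem_zpowers z)
  obtain ⟨Bb, hBb, hsub, hdef⟩ := CfsgLib.Blocks.exists_quotient_block (N := N) hpM hN2 hB
  rw [CfsgLib.AbelianDefectBound.blockRank_eq_quotient hpM hNc hN2 hB hBb hsub]
  set Db := D.map (QuotientGroup.mk' N) with hDb'
  have hDb : IsDefectGroup 2 M Bb Db := (hdef Db).2 ⟨D, hD, rfl⟩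
  have hm := q.two_le
  set H := 2 ^ (q.m - 1) with hH
  have hNH : 2 ^ q.m = 2 * H := by rw [hH, ← pow_succ', show q.m - 1 + 1 = q.m by omega]
  have hHpos : 2 ≤ H := Nat.le_self_pow (show q.m - 1 ≠ 0 by omega) 2
  -- `z` is the central involution of the cyclic part
  have hxne : q.x ^ (H : ℕ) ≠ 1 := fun h => by
    have := Nat.le_of_dvd (by omega) (orderOf_dvd_of_pow_eq_one h)
    rw [q.orderOf_x] at this
    omega
  have hmul : ∀ i : ℤ, q.x ^ i = 1 ↔ (2 * H : ℤ) ∣ i := fun i => by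
    rw [← orderOf_dvd_iff_zpow_eq_one, q.orderOf_x, hNH, Nat.cast_mul, Nat.cast_two]
  have hsq : ∀ i : ℤ, (q.x ^ i) ^ 2 = 1 → q.x ^ i = 1 ∨ q.x ^ i = q.x ^ (H : ℤ) := by
    intro i h
    rw [← zpow_natCast, ← zpow_mul, hmul] at h
    obtain ⟨k, hk⟩ := h
    have hi : i = H * k := by push_cast at hk; linarith
    rcases Int.even_or_odd k with ⟨r, hr⟩ | ⟨r, hr⟩
    · exact Or.inl ((hmul i).2 ⟨r, by rw [hi, hr]; ring⟩)
    · refine Or.inr ?_
      rw [← mul_inv_eq_one, ← zpow_sub, hmul]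
      exact ⟨r, by rw [hi, hr]; ring⟩
  have hzx : z = q.x ^ (H : ℤ) := by
    rcases q.cover z hzD with ⟨i, hi⟩ | ⟨i, hi⟩
    · refine hi ▸ (hsq i (by rw [← hi, ← hz, pow_orderOf_eq_one])).resolve_left fun h => ?_
      rw [hi, h, orderOf_one] at hz
      omega
    · exfalso
      have h1 : q.y * q.x * q.y⁻¹ = q.x := by
        have h := Subgroup.mem_center_iff.1 hzc q.x
        rw [hi, ← mul_assoc, ← zpow_one_add, add_comm, zpow_add_one, mul_assoc, mul_assoc] at h
        exact mul_inv_eq_iff_eq_mul.2 (mul_left_cancel h).symm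
      rw [q.conj_y] at h1
      refine q.s_sub ?_
      rw [← q.orderOf_x, orderOf_dvd_iff_zpow_eq_one, zpow_sub_one, h1, mul_inv_cancel]
  -- the images of the generators
  set X := (q.x : G ⧸ N) with hX
  set Y := (q.y : G ⧸ N) with hY
  have hker : ∀ i : ℤ, X ^ i = 1 ↔ (H : ℤ) ∣ i := fun i => by
    rw [hX, ← QuotientGroup.mk_zpow, QuotientGroup.eq_one_iff]
    constructor
    · intro h
      obtain ⟨k, hk⟩ := Subgroup.mem_zpowers_iff.1 h
      rw [hzx, ← zpow_mul, ← mul_inv_eq_one, ← zpow_sub, hmul] at hk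
      obtain ⟨r, hr⟩ := hk
      exact ⟨k - 2 * r, by linarith⟩
    · rintro ⟨k, rfl⟩
      rw [zpow_mul, ← hzx]
      exact Subgroup.zpow_mem_zpowers z k
  have hordX : orderOf X = H := by
    refine Nat.dvd_antisymm ?_ ?_
    · rw [orderOf_dvd_iff_pow_eq_one, ← zpow_natCast, hker]
    · exact Int.natCast_dvd_natCast.1 ((hker _).1 (by rw [zpow_natCast, pow_orderOf_eq_one]))
  have hzy : ∀ k : ℤ, q.y ≠ z ^ k := fun k h => q.y_not ⟨(H : ℤ) * k, by
    show q.x ^ ((H : ℤ) * k) = q.y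
    rw [zpow_mul, ← hzx, h]⟩
  have hordY : orderOf Y = 2 := orderOf_eq_prime (by
      rw [hY, ← QuotientGroup.mk_pow, ← q.orderOf_y, pow_orderOf_eq_one, QuotientGroup.mk_one])
    fun h => by
      obtain ⟨k, hk⟩ := Subgroup.mem_zpowers_iff.1 ((QuotientGroup.eq_one_iff _).1 h)
      exact hzy k hk.symm
  have hconj : Y * X * Y⁻¹ = X⁻¹ := by
    rw [hX, hY, ← QuotientGroup.mk_inv, ← QuotientGroup.mk_mul, ← QuotientGroup.mk_mul, q.conj_y,
      QuotientGroup.mk_zpow, ← mul_eq_one_iff_eq_inv, ← zpow_add_one, hker]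
    exact hH ▸ q.s_add
  have hfree : ∀ (g : G ⧸ N) (l : ℕ), g * Y * g⁻¹ ≠ X ^ l := by
    intro g l h
    obtain ⟨g, rfl⟩ := QuotientGroup.mk_surjective g
    rw [hX, hY, ← QuotientGroup.mk_inv, ← QuotientGroup.mk_mul, ← QuotientGroup.mk_mul, ← QuotientGroup.mk_pow,
      QuotientGroup.eq] at h
    obtain ⟨k, hk⟩ := Subgroup.mem_zpowers_iff.1 h
    have h1 : g * q.y * g⁻¹ = q.x ^ ((l : ℤ) - H * k) := by
      rw [zpow_sub, zpow_mul, ← hzx, hk, zpow_natCast]
      group
    have h2 := hsq _ (by rw [← h1, conj_pow, ← q.orderOf_y, pow_orderOf_eq_one, mul_one, mul_inv_cancel])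
    rcases h2 with h2 | h2
    · rw [h2, conj_eq_one_iff] at h1
      exact hzy 0 (by rw [zpow_zero]; exact h1)
    · rw [h2, ← hzx] at h1
      refine hzy 1 ?_
      rw [zpow_one, show q.y = g⁻¹ * z * g by rw [← h1]; group,
        mul_assoc, ← Subgroup.mem_center_iff.1 hzc g, ← mul_assoc, inv_mul_cancel, one_mul]
  have hXD : X ∈ Db := Subgroup.mem_map_of_mem _ q.x_mem
  have hYD : Y ∈ Db := Subgroup.mem_map_of_mem _ q.y_mem
  have hcov : ∀ g ∈ Db, (∃ i : ℤ, g = X ^ i) ∨ ∃ i : ℤ, g = X ^ i * Y := by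
    rintro _ ⟨g, hg, rfl⟩
    rcases q.cover g hg with ⟨i, rfl⟩ | ⟨i, rfl⟩
    · exact Or.inl ⟨i, by simp [hX]⟩
    · exact Or.inr ⟨i, by simp [hX, hY]⟩
  have hcard : Nat.card Db = 2 * H := by
    have h1 := Subgroup.card_mul_index ((QuotientGroup.mk' N).subgroupMap D).ker
    rw [Subgroup.index_ker, MonoidHom.range_eq_top.2 (MonoidHom.subgroupMap_surjective _ D), Subgroup.card_top,
      q.card_eq] at h1
    have h2 : Nat.card ((QuotientGroup.mk' N).subgroupMap D).ker = 2 := by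
      rw [show ((QuotientGroup.mk' N).subgroupMap D).ker = N.subgroupOf D from Subgroup.ext fun v => by
          simp [MonoidHom.mem_ker, Subtype.ext_iff, Subgroup.mem_subgroupOf],
        Nat.card_congr (Subgroup.subgroupOfEquivOfLe (Subgroup.zpowers_le.2 hzD)).toEquiv, Nat.card_zpowers, hz]
    rw [h2, pow_succ, mul_comm (2 ^ q.m)] at h1
    rw [← hNH]
    exact Nat.eq_of_mul_eq_mul_left two_pos h1
  rcases Nat.eq_or_lt_of_le hm with hm2 | hm3
  · -- a four-group
    have hH2 : H = 2 := by rw [hH, ← hm2]; norm_num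
    have hX2 : X * X = 1 := by
      have := pow_orderOf_eq_one X
      rwa [hordX, hH2, sq] at this
    have hY2 : Y * Y = 1 := by
      have := pow_orderOf_eq_one Y
      rwa [hordY, sq] at this
    have hc : Commute Y X := by
      have : Y * X * Y⁻¹ = X := hconj.trans (inv_eq_of_mul_eq_one_right hX2)
      exact mul_inv_eq_iff_eq_mul.1 this
    have hsqD : ∀ g ∈ Db, g * g = 1 := by
      intro g hg
      rcases hcov g hg with ⟨i, rfl⟩ | ⟨i, rfl⟩
      · rw [← (Commute.refl X).mul_zpow, hX2, one_zpow]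
      · rw [(hc.zpow_right i).mul_mul_mul_comm, ← (Commute.refl X).mul_zpow, hX2, one_zpow, hY2, one_mul]
    obtain ⟨e, he⟩ := exists_pair_on_defectGroup hpM hBb hDb
    have hmax := isMaximal_of_defectGroup hpM hDb he
    obtain ⟨-, hk4, -⟩ := four_defect hM hmax (by rw [hcard, hH2]) hsqD
    choose bl hbl using fun u : G ⧸ N => exists_pairBelow_eq (M := M) (p := 2) (⟨Db, e⟩ : BrauerPairIdx _) u
    have hblB : ∀ u ∈ Db, IsBrauerPairOf 2 M Bb (Subgroup.zpowers u) (bl u) := fun u hu =>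
      (isBrauerPairOf_iff_of_below hpM (hbl u ▸ pairBelow_below (c := ⟨Db, e⟩) hpM hmax.1.1 hu) Bb).2 hmax.1
    let y : Fin 3 → G ⧸ N := ![1, X, Y]
    have hyD : ∀ i, y i ∈ Db := fun i => by
      fin_cases i
      exacts [one_mem _, hXD, hYD]
    have hX1 : X ≠ 1 := fun h => by rw [h, orderOf_one] at hordX; omega
    have hY1 : Y ≠ 1 := fun h => by rw [h, orderOf_one] at hordY; omega
    have hne : ∀ i j (g : G ⧸ N), g * y i * g⁻¹ = y j → i = j := by
      intro i j g h
      fin_cases i <;> fin_cases j <;> simp [y] at h ⊢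
      · exact hX1 h.symm
      · exact hY1 h.symm
      · exact hX1 h
      · exact hfree g⁻¹ 1 (by rw [pow_one, ← h]; group)
      · exact hY1 h
      · exact hfree g 1 (by rw [pow_one]; exact h)
    have h1 := sum_blockRank_le hM hBb y (fun i => bl (y i))
      (fun i => exists_pow_orderOf_of_mem (IsDefectGroup.isPGroup hDb) (hyD i)) (fun i => hblB _ (hyD i))
      (fun i j g h _ => hne i j g h)
    rw [Fin.sum_univ_three, hk4] at h1
    have a0 : blockRank 2 (bl (y 0)) = blockRank 2 Bb := blockRank_pair_one hpM (hblB _ (hyD 0))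
    have a1 := one_le_blockRank (M := M) (hblB _ (hyD 1)).1.2 (p := 2)
    have a2 := one_le_blockRank (M := M) (hblB _ (hyD 2)).1.2 (p := 2)
    omega
  · let d : DP Db :=
      { n := q.m - 1
        x := X
        y := Y
        one_le := by omega
        x_mem := hXD
        y_mem := hYD
        orderOf_x := hordX
        orderOf_y := hordY
        conj_y := hconj
        y_not := fun h => by
          obtain ⟨l, hl⟩ := (IsOfFinOrder.mem_powers_iff_mem_zpowers (isOfFinOrder_of_finite X)).2 h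
          exact hfree 1 l (by rw [one_mul, inv_one, mul_one]; exact hl.symm)
        cover := hcov }
    have h1 := sections_bound hM hBb hDb d (show 2 ≤ q.m - 1 by omega) hYD hfree
    have hdih := Classical.nonempty_mulEquiv_dihedralGroup (G := Db) (x := ⟨X, hXD⟩) (s := ⟨Y, hYD⟩) (n := H)
      (by omega) (by rw [Subgroup.orderOf_mk]; exact hordX)
      (Subtype.ext (by
        have := pow_orderOf_eq_one Y
        rwa [hordY, sq] at this))
      (Subtype.ext hconj) (fun ⟨i, hi⟩ => d.y_not ⟨i, congrArg Subtype.val hi⟩) hcard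
    obtain ⟨hk, -⟩ := dihedral_defect hM hBb hDb (n := q.m) hm3 (hH ▸ hdih)
    rw [hk, show q.m - 2 = d.n - 1 from show q.m - 2 = q.m - 1 - 1 by omega] at h1
    omega

end CfsgLib.Blocks.SmallRankTwo
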