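import Cfsg.Agent.Lib.LocalEven.SolvableDihedral
import Cfsg.Agent.Lib.Involutions.AutMaximalClassTwo
import Cfsg.Agent.Lib.PGroups.MaxAbelian

/-!
# Elements of odd order in a solvable group with dihedral or semidihedral Sylow 2-subgroups

Without odd core such a group has order dividing 48, and its elements of order three are all conjugate.
-/

set_option autoImplicit false
set_option linter.style.haveILetI false

namespace CfsgLib.Blocks.SmallRankTwo

open Cfsg Subgroup

universe u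

/-- A dihedral or semidihedral group has a cyclic subgroup of index two. -/
theorem exists_cyclic_index_two {T : Type u} [Group T] [Finite T]
    (h : (∃ n : ℕ, 4 ≤ n ∧ Nonempty (T ≃* DihedralGroup n)) ∨ Cfsg.IsQuasiDihedral T) :
    ∃ c : T, (zpowers c).index = 2 := by
  rcases h with ⟨n, hn, ⟨e⟩⟩ | ⟨n, hn, hcard, x, y, hx, -, -⟩
  · haveI : NeZero n := ⟨by omega⟩
    refine ⟨e.symm (DihedralGroup.r 1), ?_⟩
    have h1 := (zpowers (e.symm (DihedralGroup.r 1))).card_mul_index
    rw [Nat.card_zpowers, MulEquiv.orderOf_eq, DihedralGroup.orderOf_r_one, Nat.card_congr e.toEquiv,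
      DihedralGroup.nat_card] at h1
    exact Nat.eq_of_mul_eq_mul_left (by omega) (h1.trans (mul_comm 2 n))
  · refine ⟨x, ?_⟩
    have h1 := (zpowers x).card_mul_index
    rw [Nat.card_zpowers, hx, hcard, pow_succ] at h1
    exact Nat.eq_of_mul_eq_mul_left (by positivity) h1

/-- The automorphisms of a four-group permute its three involutions. -/
theorem card_mulAut_dvd_six {Q : Type u} [Group Q] [Finite Q] (hQ : Nat.card Q = 4) :
    Nat.card (MulAut Q) ∣ 6 := by
  let f : MulAut Q →* Equiv.Perm {q : Q // q ≠ 1} :=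
    { toFun := fun a => a.toEquiv.subtypeEquiv fun q => not_congr (map_eq_one_iff a a.injective).symm
      map_one' := Equiv.ext fun q => rfl
      map_mul' := fun a b => Equiv.ext fun q => rfl }
  have hf : Function.Injective f := fun a b h => MulEquiv.ext fun q => by
    by_cases hq : q = 1
    · rw [hq, map_one, map_one]
    · exact congrArg Subtype.val (Equiv.congr_fun h ⟨q, hq⟩)
  refine (Subgroup.card_dvd_of_injective f hf).trans (dvd_of_eq ?_)
  classical
  haveI := Fintype.ofFinite Q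
  rw [Nat.card_perm, Nat.card_eq_fintype_card, Fintype.card_subtype_compl, ← Nat.card_eq_fintype_card, hQ,
    Fintype.card_subtype_eq]
  rfl

variable {X : Type u} [Group X] [Finite X]

/-- The order bound. -/
theorem card_dvd_48 (hsol : Group.IsSolvable X) (hO : Cfsg.pPrimeCore 2 X = ⊥) (T : Sylow 2 X)
    (hT : (∃ n : ℕ, 4 ≤ n ∧ Nonempty (↥(T : Subgroup X) ≃* DihedralGroup n)) ∨
      Cfsg.IsQuasiDihedral ↥(T : Subgroup X)) {r : ℕ} (hr : r.Prime) (hr2 : r ≠ 2) {g : X}
    (hg : orderOf g = r) : Nat.card X ∣ 48 := by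
  haveI : Fact (Nat.Prime 2) := ⟨Nat.prime_two⟩
  haveI := Fact.mk hr
  obtain ⟨hmeta, -⟩ := CfsgLib.LocalEven.SolDihedral.shape T.2 hT
  set Q := Cfsg.pCore 2 X with hQdef
  have hc : Subgroup.centralizer (Q : Set X) ≤ Q :=
    CfsgLib.Base.centralizer_pCore_le_of_isSolvable (p := 2) hO
  have hQ2 : IsPGroup 2 ↥Q := CfsgLib.Base.isPGroup_pCore 2 X
  have hQT : Q ≤ (T : Subgroup X) := CfsgLib.Base.pCore_le_sylow T
  have hQmeta : Cfsg.IsMetacyclic ↥Q :=
    CfsgLib.OddOrder.isMetacyclic_of_surjective (Subgroup.subgroupOfEquivOfLe hQT).toMonoidHom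
      (Subgroup.subgroupOfEquivOfLe hQT).surjective
      (CfsgLib.LocalEven.SolDihedral.isMetacyclic_subgroup hmeta (Q.subgroupOf (T : Subgroup X)))
  have hgQ : g ∉ Q := by
    intro h
    obtain ⟨j, hj⟩ := IsPGroup.iff_orderOf.mp hQ2 ⟨g, h⟩
    rw [Subgroup.orderOf_mk, hg] at hj
    exact hr2 ((Nat.prime_dvd_prime_iff_eq hr Nat.prime_two).mp (hr.dvd_of_dvd_pow (dvd_of_eq hj)))
  let φ : MulAut ↥Q := MulAut.conjNormal g
  have hφ : φ ^ r = 1 := by rw [← map_pow, ← hg, pow_orderOf_eq_one, map_one]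
  have hφ1 : φ ≠ 1 := by
    intro h
    refine hgQ (hc (Subgroup.mem_centralizer_iff.2 fun x hx => ?_))
    have h1 : φ ⟨x, hx⟩ = ⟨x, hx⟩ := by rw [h]; rfl
    exact (mul_inv_eq_iff_eq_mul.mp (congrArg Subtype.val h1 : g * x * g⁻¹ = x)).symm
  rcases CfsgLib.PGroups.MetacyclicTwoAut.quaternion_or_homocyclic hQ2 hQmeta hr2 hφ hφ1 with
    ⟨⟨e⟩⟩ | ⟨n, ⟨e⟩⟩
  · exact CfsgLib.Involutions.card_dvd_of_centralizer_le_quaternion_eight hc e
  · have hQc : Nat.card Q = 2 ^ n * 2 ^ n := by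
      rw [Nat.card_congr e.toEquiv, Nat.card_prod]
      simp [Nat.card_zmod]
    have hn1 : n ≤ 1 := by
      obtain ⟨c, hcc⟩ := exists_cyclic_index_two hT
      haveI : (zpowers c).Normal := Subgroup.normal_of_index_eq_two hcc
      set Q' := Q.subgroupOf (T : Subgroup X)
      have h1 : (zpowers c).relIndex Q' ∣ 2 := by
        have := Subgroup.relIndex_dvd_index_of_normal (zpowers c) Q'
        rwa [hcc] at this
      have h2 := Subgroup.card_mul_index ((zpowers c).subgroupOf Q')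
      rw [Nat.card_congr (Subgroup.subgroupOfEquivOfLe hQT).toEquiv, hQc] at h2
      haveI : IsCyclic ((zpowers c).subgroupOf Q') := isCyclic_of_injective
        ((Q'.subtype.comp ((zpowers c).subgroupOf Q').subtype).codRestrict (zpowers c) fun v => v.2)
        fun a b h => Subtype.ext (Subtype.ext (congrArg (fun z : zpowers c => (z : ↥(T : Subgroup X))) h))
      obtain ⟨v, hv⟩ := IsCyclic.exists_ofOrder_eq_natCard (α := (zpowers c).subgroupOf Q')
      have h3 : orderOf v ∣ 2 ^ n := by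
        rw [← Subgroup.orderOf_coe, ← MulEquiv.orderOf_eq ((Subgroup.subgroupOfEquivOfLe hQT).trans e),
          orderOf_dvd_iff_pow_eq_one]
        refine Prod.ext (Multiplicative.toAdd.injective ?_) (Multiplicative.toAdd.injective ?_) <;>
          simp [ZModModule.char_nsmul_eq_zero]
      have h4 := Nat.le_of_dvd two_pos h1
      have h5 := Nat.le_of_dvd (Nat.two_pow_pos n) h3
      rw [hv] at h5
      have h6 : 2 ^ n * 2 ^ n ≤ 2 ^ n * 2 := h2 ▸ Nat.mul_le_mul h5 h4
      have h7 := Nat.le_of_mul_le_mul_left h6 (Nat.two_pow_pos n)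
      exact (Nat.pow_le_pow_iff_right one_lt_two).1 (by rwa [pow_one])
    have hQ4 : n = 1 := by
      by_contra h
      obtain rfl : n = 0 := by omega
      refine hgQ (hc (Subgroup.mem_centralizer_iff.2 fun x hx => ?_))
      rw [Subgroup.eq_bot_of_card_eq Q (by simpa using hQc)] at hx
      rw [Subgroup.mem_bot.1 hx, one_mul, mul_one]
    subst hQ4
    rw [pow_one] at hQc
    have hcomm : ∀ a b : ↥Q, a * b = b * a := fun a b => e.injective (by rw [map_mul, map_mul, mul_comm])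
    have hA : centralizer (Q : Set X) = Q := le_antisymm hc fun a ha =>
      Subgroup.mem_centralizer_iff.2 fun b hb => congrArg Subtype.val (hcomm ⟨b, hb⟩ ⟨a, ha⟩)
    have h1 := CfsgLib.PGroups.card_dvd_card_mul_mulAut hA
    exact h1.trans ((Nat.mul_dvd_mul (dvd_of_eq hQc) (card_mulAut_dvd_six hQc)).trans (by norm_num))

/-- Up to conjugacy there is at most one nontrivial element of odd order. -/
theorem exists_odd_rep (hsol : Group.IsSolvable X) (hO : Cfsg.pPrimeCore 2 X = ⊥) (T : Sylow 2 X)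
    (hT : (∃ n : ℕ, 4 ≤ n ∧ Nonempty (↥(T : Subgroup X) ≃* DihedralGroup n)) ∨
      Cfsg.IsQuasiDihedral ↥(T : Subgroup X)) :
    ∃ t : X, t ^ 3 = 1 ∧ ∀ g : X, ¬ 2 ∣ orderOf g → ∃ c : X, c * g * c⁻¹ = 1 ∨ c * g * c⁻¹ = t := by
  haveI : Fact (Nat.Prime 2) := ⟨Nat.prime_two⟩
  haveI : Fact (Nat.Prime 3) := ⟨Nat.prime_three⟩
  by_cases hex : ∀ g : X, ¬ 2 ∣ orderOf g → g = 1
  · exact ⟨1, one_pow _, fun g hg => ⟨1, Or.inl (by rw [hex g hg]; simp)⟩⟩
  push Not at hex
  obtain ⟨g₀, hg₀, hg₀1⟩ := hex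
  -- the order divides 48
  obtain ⟨r, hr, hrd⟩ := Nat.exists_prime_and_dvd (mt orderOf_eq_one_iff.1 hg₀1)
  haveI := Fact.mk hr
  obtain ⟨g₁, hg₁⟩ := exists_prime_orderOf_dvd_card' (G := X) r (hrd.trans (orderOf_dvd_natCard g₀))
  have h48 := card_dvd_48 hsol hO T hT hr (fun h => hg₀ (h ▸ hrd)) hg₁
  have hthree : ∀ g : X, ¬ 2 ∣ orderOf g → g ≠ 1 → orderOf g = 3 := fun g hg hg1 => by
    have h1 : orderOf g ∣ 2 ^ 4 * 3 := (orderOf_dvd_natCard g).trans h48
    have h2 : orderOf g ∣ 3 :=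
      (Nat.Coprime.pow_right 4 ((Nat.prime_two.coprime_iff_not_dvd.2 hg).symm)).dvd_of_dvd_mul_left h1
    exact ((Nat.dvd_prime Nat.prime_three).1 h2).resolve_left (mt orderOf_eq_one_iff.1 hg1)
  have ht := hthree g₀ hg₀ hg₀1
  -- the cyclic group is a Sylow subgroup
  have hcard : ∀ g : X, orderOf g = 3 → Nat.card (zpowers g) = 3 ^ (Nat.card X).factorization 3 := fun g hg => by
    have h3 : (Nat.card X).factorization 3 = 1 := by
      refine le_antisymm ?_ ?_
      · refine Nat.le_of_lt_succ (Nat.lt_of_not_le fun h => ?_)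
        have := ((pow_dvd_pow 3 h).trans (Nat.ordProj_dvd _ _)).trans h48
        norm_num at this
      · exact (Nat.prime_three.dvd_iff_one_le_factorization Nat.card_pos.ne').1 (hg ▸ orderOf_dvd_natCard g)
    rw [Nat.card_zpowers, hg, h3, pow_one]
  set P : Sylow 3 X := Sylow.ofCard (zpowers g₀) (hcard g₀ ht)
  have hP : (P : Subgroup X) = zpowers g₀ := rfl
  refine ⟨g₀, ht ▸ pow_orderOf_eq_one g₀, fun g hg => ?_⟩
  by_cases hg1 : g = 1
  · exact ⟨1, Or.inl (by rw [hg1]; simp)⟩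
  obtain ⟨c, hc⟩ := MulAction.exists_smul_eq X (Sylow.ofCard (zpowers g) (hcard g (hthree g hg hg1))) P
  have hmem : c * g * c⁻¹ ∈ zpowers g₀ := by
    rw [← hP, ← hc]
    exact Subgroup.smul_mem_pointwise_smul g (MulAut.conj c) _ (mem_zpowers g)
  -- some element inverts `g₀`
  have hinv : ∃ d : X, d * g₀ * d⁻¹ = g₀ ^ 2 := by
    by_contra hno
    have hN : normalizer ((P : Subgroup X) : Set X) ≤ centralizer ((P : Subgroup X) : Set X) := by
      intro d hd
      rw [hP] at hd ⊢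
      obtain ⟨i, hi⟩ := (mem_zpowers_iff).1 ((Subgroup.mem_normalizer_iff.1 hd g₀).1 (mem_zpowers g₀))
      have h1 : d * g₀ * d⁻¹ = g₀ ^ (i % 3).toNat := by
        rw [← hi, ← zpow_natCast, Int.toNat_of_nonneg (Int.emod_nonneg i (by norm_num)), ← zpow_mod_orderOf, ht]
        rfl
      have h3 : (i % 3).toNat < 3 := by omega
      rw [Subgroup.mem_centralizer_iff]
      intro v hv
      obtain ⟨j, rfl⟩ := mem_zpowers_iff.1 hv
      interval_cases hk : (i % 3).toNat
      · rw [pow_zero, conj_eq_one_iff] at h1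
        exact absurd h1 hg₀1
      · rw [pow_one, mul_inv_eq_iff_eq_mul] at h1
        exact ((show Commute d g₀ from h1).zpow_right j).eq.symm
      · exact absurd ⟨d, h1⟩ hno
    have hcompl := MonoidHom.ker_transferSylow_isComplement' P hN
    set K := (MonoidHom.transferSylow P hN).ker
    have hK2 : IsPGroup 2 K := by
      have h1 := hcompl.card_mul_card
      rw [hP, Nat.card_zpowers, ht] at h1
      have h2 : Nat.card K ∣ 2 ^ 4 := Nat.dvd_of_mul_dvd_mul_right (by norm_num : 0 < 3) (h1 ▸ h48)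
      obtain ⟨k, -, hk⟩ := (Nat.dvd_prime_pow Nat.prime_two).1 h2
      exact IsPGroup.of_card hk
    have hTK : (T : Subgroup X) = Cfsg.pCore 2 X := by
      have hKQ : K ≤ Cfsg.pCore 2 X := CfsgLib.LocalEven.le_pCore inferInstance hK2
      refine le_antisymm (fun v hv => hKQ ?_) (CfsgLib.Base.pCore_le_sylow T)
      rw [MonoidHom.mem_ker]
      have h1 : orderOf (MonoidHom.transferSylow P hN v) ∣ orderOf v := orderOf_map_dvd _ v
      obtain ⟨k, hk⟩ := IsPGroup.iff_orderOf.mp T.2 ⟨v, hv⟩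
      rw [Subgroup.orderOf_mk] at hk
      have h2 : orderOf (MonoidHom.transferSylow P hN v) ∣ 3 := by
        refine (_root_.orderOf_dvd_natCard _).trans (dvd_of_eq ?_)
        show Nat.card (zpowers g₀) = 3
        rw [Nat.card_zpowers, ht]
      rw [hk] at h1
      rw [← orderOf_eq_one_iff, ← Nat.dvd_one]
      have h3 : Nat.Coprime (2 ^ k) 3 := Nat.Coprime.pow_left k (by norm_num)
      exact h3 ▸ Nat.dvd_gcd h1 h2
    haveI : (T : Subgroup X).Normal := hTK ▸ inferInstance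
    obtain ⟨j, hj⟩ := IsPGroup.iff_orderOf.mp
      (CfsgLib.Involutions.isPGroup_mulAut_dihedral_or_qd T.2 hT) (MulAut.conjNormal (H := (T : Subgroup X)) g₀)
    have h1 : orderOf (MulAut.conjNormal (H := (T : Subgroup X)) g₀) ∣ 3 := ht ▸ orderOf_map_dvd _ g₀
    rw [hj] at h1
    have hj0 : j = 0 := by
      by_contra h
      have := (dvd_pow_self 2 h).trans h1
      norm_num at this
    rw [hj0, pow_zero, orderOf_eq_one_iff] at hj
    have hgc : g₀ ∈ centralizer ((Cfsg.pCore 2 X : Subgroup X) : Set X) := by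
      rw [← hTK, Subgroup.mem_centralizer_iff]
      intro v hv
      have := congrArg Subtype.val (DFunLike.congr_fun hj ⟨v, hv⟩)
      simp only [MulAut.conjNormal_apply, MulAut.one_apply] at this
      exact (mul_inv_eq_iff_eq_mul.1 this).symm
    have hgQ := CfsgLib.Base.centralizer_pCore_le_of_isSolvable (p := 2) hO hgc
    obtain ⟨k, hk⟩ := IsPGroup.iff_orderOf.mp (CfsgLib.Base.isPGroup_pCore 2 X) ⟨g₀, hgQ⟩
    rw [Subgroup.orderOf_mk, ht] at hk
    rcases k with _ | k
    · norm_num at hk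
    · rw [pow_succ] at hk; omega
  obtain ⟨d, hd⟩ := hinv
  obtain ⟨i, hi⟩ := mem_zpowers_iff.1 hmem
  rw [← zpow_mod_orderOf, ht] at hi
  rcases (show i % 3 = 0 ∨ i % 3 = 1 ∨ i % 3 = 2 by omega) with h | h | h <;>
    simp only [Nat.cast_ofNat, h] at hi
  · exact ⟨c, Or.inl (by rw [← hi, zpow_zero])⟩
  · exact ⟨c, Or.inr (by rw [← hi, zpow_one])⟩
  · refine ⟨d * c, Or.inr ?_⟩
    rw [show d * c * g * (d * c)⁻¹ = d * (c * g * c⁻¹) * d⁻¹ by group, ← hi,
      show g₀ ^ (2 : ℤ) = g₀ ^ 2 from zpow_natCast g₀ 2, ← conj_pow, hd, ← pow_mul]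
    rw [show (2 * 2 : ℕ) = 3 + 1 from rfl, pow_succ, ← ht, pow_orderOf_eq_one, one_mul]

end CfsgLib.Blocks.SmallRankTwo
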