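import Cfsg.Agent.Lib.Blocks.DihedralParity
import Cfsg.Agent.Lib.Blocks.DihedralLocalBlock
import Cfsg.Agent.Lib.Blocks.SectionSum

/-!
# Sections of a block with dihedral defect group

The powers of the rotation carry pairwise non-conjugate subsections; an element of the defect group
fused with none of them adds one more.
-/

set_option autoImplicit false
set_option linter.unusedSectionVars false
set_option linter.style.haveILetI false

namespace CfsgLib.Blocks.SmallRankTwo

open Cfsg Chars BlockOrth Involutions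
open scoped ComplexConjugate

universe u

variable {G : Type u} [Group G] [Fintype G] {M : Ideal AlgInt} [M.IsPrime] [Fact (Nat.Prime 2)]

/-- An element of a dihedral defect group conjugate to no power of the rotation. -/
theorem sections_bound (hM : IsPModular 2 M) {B : Set (IrrCharacter G)} (hB : IsPBlock M B)
    {D : Subgroup G} (hD : IsDefectGroup 2 M B D) (d : DP D) (hn2 : 2 ≤ d.n) {u : G} (hu : u ∈ D)
    (hfree : ∀ (g : G) (l : ℕ), g * u * g⁻¹ ≠ d.x ^ l) :
    blockRank 2 B + 2 ^ (d.n - 1) + 1 ≤ Nat.card B := by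
  classical
  haveI := irrFintype G
  haveI := fun S : Subgroup G => Fintype.ofFinite S
  haveI := fun S : Subgroup G => irrFintype S
  have hpM : ((2 : ℕ) : AlgInt) ∈ M := hM.2.2
  obtain ⟨e, he⟩ := exists_pair_on_defectGroup hpM hB hD
  have hmax := isMaximal_of_defectGroup hpM hD he
  have hDp : IsPGroup 2 D := IsDefectGroup.isPGroup hD
  set N := 2 ^ d.n with hN
  set H := 2 ^ (d.n - 1) with hH
  have hN2 : N = 2 * H := by rw [hN, hH, ← pow_succ', show d.n - 1 + 1 = d.n by omega]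
  have hH2 : 2 ≤ H := Nat.le_self_pow (show d.n - 1 ≠ 0 by omega) 2
  have hHe : Even H := by rw [hH]; exact Even.pow_of_ne_zero even_two (by omega)
  obtain ⟨h, hhH⟩ : ∃ h, H = h + 1 := ⟨H - 1, by omega⟩
  have hodd : Odd h := by
    obtain ⟨q, hq⟩ := hHe
    exact ⟨q - 1, by omega⟩
  haveI : NeZero N := ⟨by omega⟩
  have hxN : d.x ^ N = 1 := by rw [hN, ← d.orderOf_x, pow_orderOf_eq_one]
  set xD : D := ⟨d.x, d.x_mem⟩ with hxD
  have hcoe : ∀ l : ℕ, ((xD ^ l : D) : G) = d.x ^ l := fun l => rfl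
  have hz : d.z = d.x ^ H := by
    rw [DP.z, show d.half = ((H : ℕ) : ℤ) by simp [DP.half, hH], zpow_natCast]
  have hne1 : ∀ l, 0 < l → l < N → d.x ^ l ≠ 1 := fun l hl hlN h1 => by
    have := Nat.le_of_dvd hl (orderOf_dvd_of_pow_eq_one h1)
    rw [d.orderOf_x] at this
    omega
  have hzC : d.z ∈ Subgroup.centralizer (D : Set G) :=
    Subgroup.mem_centralizer_iff.2 fun a ha => (d.commute_z ha).eq.symm
  have hord : ∀ a ∈ D, ∃ k, orderOf a = 2 ^ k := fun a ha =>
    exists_pow_orderOf_of_mem hDp ha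
  -- the centralizer of the central involution
  obtain ⟨bz, hbz⟩ := exists_pairBelow_eq (M := M) (p := 2) (⟨D, e⟩ : BrauerPairIdx G) d.z
  have hbzle : Below 2 M ⟨Subgroup.zpowers d.z, bz⟩ ⟨D, e⟩ :=
    hbz ▸ pairBelow_below (c := ⟨D, e⟩) hpM hmax.1.1 d.z_mem
  have hH' := mem_centralizer_zpowers_iff d.z
  have hPK : D ≤ Subgroup.centralizer (Subgroup.zpowers d.z : Set G) := fun a ha =>
    (hH' a).2 (d.commute_z ha).eq.symm
  have hCP : Subgroup.centralizer (D : Set G) ≤ Subgroup.centralizer (Subgroup.zpowers d.z : Set G) :=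
    centralizer_antitone (Subgroup.zpowers_le.2 d.z_mem)
  have hmaxK := maximal_at_central hpM hmax d.z_mem hPK hCP hbzle
  have hnil : IsNilpotentBlock 2 M bz :=
    isNilpotentBlock_at_z hpM d hDp (by
      rintro _ ⟨a, ha, rfl⟩; exact ha) hmaxK
  obtain ⟨θ, hθ, hθ0⟩ := exists_blockHeight_eq_zero (p := 2) hnil.1
  obtain ⟨ξ, V, hξn, hcol, hnorm, horth, hVK⟩ :=
    exists_local_columns hpM hmax hPK hCP hnil hmaxK hθ hθ0
  have hKle : ∀ l, 0 < l → l < N →
      Subgroup.centralizer (Subgroup.zpowers ((xD ^ l : D) : G) : Set G) ≤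
        Subgroup.centralizer (Subgroup.zpowers d.z : Set G) := fun l hl hlN =>
    centralizer_antitone (Subgroup.zpowers_le.2 (dp_z_mem_zpowers d
      (pow_mem (Subgroup.mem_zpowers _) l) (hne1 l hl hlN)))
  have hin : ∀ l m, 0 < l → l < N → ∀ g : G,
      g * ((xD ^ l : D) : G) * g⁻¹ = ((xD ^ m : D) : G) →
      g ∈ Subgroup.centralizer (Subgroup.zpowers d.z : Set G) := by
    intro l m hl hlN g hg
    rw [hcoe, hcoe] at hg
    have hlx : d.x ^ l ∈ Subgroup.zpowers d.x := pow_mem (Subgroup.mem_zpowers _) l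
    obtain ⟨i, hi⟩ := Subgroup.mem_zpowers_iff.1 (dp_z_mem_zpowers d hlx (hne1 l hl hlN))
    have hgz : g * d.z * g⁻¹ = d.z := by
      refine dp_invol_eq_z d ?_ ?_ ?_
      · rw [← hi, ← conj_zpow, hg]
        exact zpow_mem (pow_mem (Subgroup.mem_zpowers _) m) i
      · rw [show g * d.z * g⁻¹ * (g * d.z * g⁻¹) = g * (d.z * d.z) * g⁻¹ by group,
          invol_mul_self d.orderOf_z, mul_one, mul_inv_cancel]
      · rw [Ne, conj_eq_one_iff]
        exact invol_ne_one d.orderOf_z
    exact (hH' g).2 (mul_inv_eq_iff_eq_mul.1 hgz)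
  -- the coordinates on the powers of `x`
  set f : IrrCharacter G → ℕ → ℂ := fun χ l => ξ χ (xD ^ l) with hf
  have hfreal : ∀ χ l, conj (f χ l) = f χ l := fun χ l => by
    obtain ⟨nn, hnn⟩ := hξn χ
    simp only [hf, hnn, map_sum, map_mul, map_intCast]
    exact Finset.sum_congr rfl fun ψ _ => by rw [hxD, dp_irr_real d l ψ]
  set s := Finset.univ.filter (fun χ : IrrCharacter G => χ ∈ B) with hs
  have hmems : ∀ {χ : IrrCharacter G}, χ ∈ s ↔ χ ∈ B := by simp [hs]
  have hgramC : ∀ l l', 0 < l → l < N → 0 < l' → l' < N → ∑ χ ∈ s, f χ l * f χ l' =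
      (if l' = l then (N : ℂ) else 0) + if l' + l = N then (N : ℂ) else 0 := by
    intro l l' hl hlN hl' hl'N
    have h1 := horth (xD ^ l) (xD ^ l') (hKle l hl hlN) (hKle l' hl' hl'N) (hin l l' hl hlN)
    rw [hxD, dp_irr_orth d hn2 hl hlN hl' hl'N] at h1
    rw [← h1]
    refine Finset.sum_congr rfl fun χ _ => ?_
    rw [← hxD]
    show f χ l * f χ l' = f χ l * conj (f χ l')
    rw [hfreal]
  -- the pairs below
  choose bl hbl using fun u : G => exists_pairBelow_eq (M := M) (p := 2) (⟨D, e⟩ : BrauerPairIdx G) u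
  have hblle : ∀ u ∈ D, Below 2 M ⟨Subgroup.zpowers u, bl u⟩ ⟨D, e⟩ := fun u hu =>
    hbl u ▸ pairBelow_below (c := ⟨D, e⟩) hpM hmax.1.1 hu
  have hblB : ∀ u ∈ D, IsBrauerPairOf 2 M B (Subgroup.zpowers u) (bl u) := fun u hu =>
    (isBrauerPairOf_iff_of_below hpM (hblle u hu) B).2 hmax.1
  have h1reg : ¬ 2 ∣ orderOf (1 : G) := by simp
  have hsec : ∀ (χ : IrrCharacter G) (l : ℕ), 0 < l → l < N →
      secVal ⟨Subgroup.zpowers (d.x ^ l), bl (d.x ^ l)⟩ (χ : G → ℂ) (d.x ^ l) =
        f χ l * V (xD ^ l) (d.x ^ l) := fun χ l hl hlN => by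
    have h1 := hcol χ (xD ^ l) (hKle l hl hlN) 1 (Commute.one_right _) h1reg
    rw [mul_one, hcoe, hbl] at h1
    exact h1
  set y : Option (Fin H) → G := fun i => i.elim 1 (fun l => d.x ^ ((l : ℕ) + 1)) with hy
  have hyD : ∀ i, y i ∈ D := fun i => by
    cases i with
    | none => exact one_mem _
    | some l => exact pow_mem d.x_mem _
  have hnoconj : ∀ l m : ℕ, 0 < l → l ≤ H → 0 < m → m ≤ H → ∀ g : G,
      g * d.x ^ l * g⁻¹ = d.x ^ m → conjPair g ⟨Subgroup.zpowers (d.x ^ l), bl (d.x ^ l)⟩ =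
        (⟨Subgroup.zpowers (d.x ^ m), bl (d.x ^ m)⟩ : BrauerPairIdx G) → l = m := by
    intro l m hl hlH hm hmH g hg hgp
    by_contra hlm
    have h1 := sum_secVal_mul_conj hpM (exists_pow_eq_one_of_mem hDp (pow_mem d.x_mem l))
      (exists_pow_eq_one_of_mem hDp (pow_mem d.x_mem m))
      (hblB _ (pow_mem d.x_mem l)) (hblB _ (pow_mem d.x_mem m))
    rw [Finset.sum_congr rfl (g := fun χ : IrrCharacter G => f χ l * f χ m *
        (V (xD ^ l) (d.x ^ l) * conj (V (xD ^ m) (d.x ^ m)))) fun χ _ => by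
      rw [hsec χ l hl (by omega), hsec χ m hm (by omega), map_mul, hfreal]; ring,
      ← Finset.sum_mul, ← hs] at h1
    rw [hgramC l m hl (by omega) hm (by omega), if_neg (fun h' => hlm h'.symm), if_neg (by omega),
      add_zero, zero_mul] at h1
    refine mul_ne_zero (Nat.cast_ne_zero.2 (Finset.card_ne_zero.2 ⟨g, ?_⟩)) ?_ h1.symm
    · exact Finset.mem_filter.2 ⟨Finset.mem_univ _, hg, hgp⟩
    · exact blockCoeff_apply_one_ne_zero (hblB _ (pow_mem d.x_mem l)).1.2
  have hne : ∀ i j (g : G), g * y i * g⁻¹ = y j → conjPair g ⟨Subgroup.zpowers (y i), bl (y i)⟩ =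
      (⟨Subgroup.zpowers (y j), bl (y j)⟩ : BrauerPairIdx G) → i = j := by
    intro i j g hg hgp
    rcases i with _ | l <;> rcases j with _ | m <;> simp only [hy, Option.elim_none,
      Option.elim_some] at hg hgp ⊢
    · rw [mul_one, mul_inv_cancel] at hg
      exact absurd hg.symm (hne1 _ (Nat.succ_pos _) (by omega))
    · exact absurd (conj_eq_one_iff.1 hg) (hne1 _ (Nat.succ_pos _) (by omega))
    · exact congrArg some (Fin.ext (by
        have := hnoconj _ _ (Nat.succ_pos _) (by omega) (Nat.succ_pos _) (by omega) g hg hgp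
        omega))
  set Y : Option (Option (Fin H)) → G := fun i => i.elim u y with hY
  have hYD : ∀ i, Y i ∈ D := fun i => by
    cases i with
    | none => exact hu
    | some i => exact hyD i
  have hyx : ∀ i, ∃ l : ℕ, y i = d.x ^ l := fun i => by
    cases i with
    | none => exact ⟨0, (pow_zero _).symm⟩
    | some l => exact ⟨_, rfl⟩
  have hneY : ∀ i j (g : G), g * Y i * g⁻¹ = Y j → conjPair g ⟨Subgroup.zpowers (Y i), bl (Y i)⟩ =
      (⟨Subgroup.zpowers (Y j), bl (Y j)⟩ : BrauerPairIdx G) → i = j := by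
    intro i j g hg hgp
    rcases i with _ | i <;> rcases j with _ | j
    · rfl
    · obtain ⟨l, hl⟩ := hyx j
      exact absurd (hg.trans hl) (hfree g l)
    · obtain ⟨l, hl⟩ := hyx i
      simp only [hY, Option.elim_none, Option.elim_some] at hg
      refine absurd ?_ (hfree g⁻¹ l)
      rw [← hl, ← hg]
      group
    · exact congrArg some (hne i j g hg hgp)
  have h1 := sum_blockRank_le hM hB Y (fun i => bl (Y i)) (fun i => hord _ (hYD i))
    (fun i => hblB _ (hYD i)) hneY
  rw [Fintype.sum_option, Fintype.sum_option] at h1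
  have a1 := one_le_blockRank (M := M) (hblB _ (hYD none)).1.2 (p := 2)
  have a2 : blockRank 2 (bl (y none)) = blockRank 2 B := blockRank_pair_one hpM (hblB _ (hyD none))
  have a3 : H ≤ ∑ l : Fin H, blockRank 2 (bl (y (some l))) :=
    calc H = ∑ _l : Fin H, 1 := by simp
      _ ≤ _ := Finset.sum_le_sum fun l _ => one_le_blockRank (M := M) (hblB _ (hyD (some l))).1.2
  have h5 := le_trans (add_le_add a1 (add_le_add a2.ge a3)) h1
  omega

end CfsgLib.Blocks.SmallRankTwo
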