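import Cfsg.Agent.Lib.Blocks.SmallRankTwo.SpanBound
import Cfsg.Agent.Lib.Blocks.SmallRankTwo.GroupStructure
import Cfsg.Agent.Lib.Blocks.RankGapOne

/-!
# Solvable groups: at most two Brauer characters over a dihedral or semidihedral defect group
-/

set_option autoImplicit false
set_option linter.unusedSectionVars false
set_option linter.style.haveILetI false

namespace CfsgLib.Blocks.SmallRankTwo

open Cfsg CfsgLib.Chars CfsgLib.Blocks

universe u

/-- Dihedral of order at least eight, or semidihedral. -/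
def DShape (T : Type*) [Group T] : Prop :=
  (∃ n : ℕ, 4 ≤ n ∧ Nonempty (T ≃* DihedralGroup n)) ∨ Cfsg.IsQuasiDihedral T

theorem DShape.congr {T S : Type*} [Group T] [Group S] (e : T ≃* S) (h : DShape T) : DShape S := by
  rcases h with ⟨n, hn, ⟨f⟩⟩ | ⟨n, hn, hcard, x, y, hx, hy, hc⟩
  · exact Or.inl ⟨n, hn, ⟨e.symm.trans f⟩⟩
  · exact Or.inr ⟨n, hn, by rw [← Nat.card_congr e.toEquiv, hcard], e x, e y, by rw [MulEquiv.orderOf_eq, hx],
      by rw [MulEquiv.orderOf_eq, hy], by rw [← map_inv, ← map_mul, ← map_mul, hc, map_pow]⟩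

variable {M : Ideal AlgInt} [M.IsPrime] [Fact (Nat.Prime 2)]

theorem solvable_rank_le_two_aux : ∀ n : ℕ, ∀ {G : Type u} [Group G] [Fintype G],
    Nat.card G = n → IsPModular 2 M → Group.IsSolvable G →
    ∀ B : Set (IrrCharacter G), IsPBlock M B → ∀ D : Subgroup G, IsDefectGroup 2 M B D → DShape D →
      blockRank 2 B ≤ 2 := by
  intro n
  induction n using Nat.strong_induction_on with
  | _ n ih =>
  intro G _ _ hn hM hsol B hB D hD hshape
  classical
  haveI : Group.IsSolvable G := hsol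
  have hsolv : IsPSolvable 2 G := CfsgLib.PLocal.isPSolvable_of_isSolvable
  have hpM := hM.2.2
  set N := pPrimeCore 2 G with hNdef
  haveI := Fintype.ofFinite N
  have hcard : ¬ 2 ∣ Nat.card N := Base.not_dvd_card_pPrimeCore 2 G
  obtain ⟨χ, hχ⟩ := IsPBlock.nonempty hB
  obtain ⟨θ, hθ⟩ := exists_constituent_restrict N χ
  let T : Subgroup G :=
    { carrier := {g | conjIrr N g θ = θ}
      mul_mem' := fun {g h} hg hh => by
        simp only [Set.mem_ofPred_eq] at hg hh ⊢
        rw [conjIrr_mul, hg, hh]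
      one_mem' := conjIrr_one N θ
      inv_mem' := fun {g} hg => by
        simp only [Set.mem_ofPred_eq] at hg ⊢
        conv_lhs => rw [← hg]
        rw [← conjIrr_mul, mul_inv_cancel, conjIrr_one] }
  have hb : IsPBlock M ({θ} : Set (IrrCharacter N)) := isPBlock_singleton_of_pPrime hpM hcard θ
  have hTmem : ∀ g : G, g ∈ T ↔ conjIrr N g θ = θ := fun g => Iff.rfl
  have hT' : ∀ g : G, g ∈ T ↔ ∀ φ ∈ ({θ} : Set (IrrCharacter N)),
      conjIrr N g φ ∈ ({θ} : Set (IrrCharacter N)) := fun g => by simp [hTmem]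
  by_cases htop : T = ⊤
  · have hinv : ∀ (g : G) (m : N), (θ : N → ℂ) (CharsMore.conjBy N g m) = (θ : N → ℂ) m :=
      fun g m => congrFun (congrArg Subtype.val ((hTmem g).1 (htop ▸ Subgroup.mem_top g))) m
    haveI := CfsgLib.PLocal.pPrimePCore_normal 2 G
    obtain ⟨R⟩ : Nonempty (Sylow 2 ↥(pPrimePCore 2 G)) := inferInstance
    obtain ⟨k, hk'⟩ := IsPGroup.iff_card.mp (CfsgLib.Base.isPGroup_pCore 2 (G ⧸ pPrimeCore 2 G))
    have hrel : N.relIndex (pPrimePCore 2 G) = 2 ^ k := by
      rw [hNdef, ← hk', ← CfsgLib.PLocal.card_map_mk'_eq_relIndex, pPrimePCore,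
        Subgroup.map_comap_eq_self_of_surjective (QuotientGroup.mk'_surjective _)]
    have hRS : ¬ 2 ∣ ((R : Subgroup ↥(pPrimePCore 2 G)).map (pPrimePCore 2 G).subtype).relIndex
        (pPrimePCore 2 G) := by
      rw [Subgroup.relIndex, Subgroup.subgroupOf,
        Subgroup.comap_map_eq_self_of_injective (pPrimePCore 2 G).subtype_injective]
      exact R.not_dvd_index
    obtain ⟨hB₁, hS⟩ := fong_single_block hpM N hcard (pPrimePCore 2 G)
      (CfsgLib.Base.pPrimeCore_le_pPrimePCore 2 G) hrel (Subgroup.map_subtype_le _) (R.2.map _) hRS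
      ((CfsgLib.PLocal.isPConstrained_of_isPSolvable hsolv) R) θ hinv
    have hBeq := IsPBlock.eq_of_mem hB hB₁ hχ hθ
    obtain ⟨S⟩ : Nonempty (Sylow 2 G) := inferInstance
    have hSdef : IsDefectGroup 2 M B (S : Subgroup G) := hBeq ▸ hS S
    obtain ⟨c, hc⟩ := IsDefectGroup.exists_conj_eq hpM hB hD hSdef
    have hSshape : DShape (S : Subgroup G) := by
      rw [← hc]
      exact hshape.congr (D.equivMapOfInjective _ (MulAut.conj c).injective)
    -- the quotient by the odd core
    let q := QuotientGroup.mk' N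
    have hq : Function.Surjective q := QuotientGroup.mk'_surjective N
    let S' : Sylow 2 (G ⧸ N) := S.mapSurjective hq
    have hinj : Function.Injective (q.subgroupMap (S : Subgroup G)) := by
      rw [injective_iff_map_eq_one]
      rintro ⟨v, hv⟩ h
      have hvN : v ∈ N := (QuotientGroup.eq_one_iff v).1 (congrArg Subtype.val h)
      obtain ⟨j, hj⟩ := IsPGroup.iff_orderOf.1 S.2 ⟨v, hv⟩
      rw [Subgroup.orderOf_mk] at hj
      have hd : orderOf v ∣ Nat.card N := by rw [← Subgroup.orderOf_mk v hvN]; exact orderOf_dvd_natCard _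
      refine Subtype.ext (orderOf_eq_one_iff.1 ?_)
      rcases j with _ | j
      · rw [hj, pow_zero]
      · exact absurd ((hj ▸ dvd_pow_self 2 j.succ_ne_zero : 2 ∣ orderOf v).trans hd) hcard
    have hS' : DShape (S' : Subgroup (G ⧸ N)) :=
      hSshape.congr (MulEquiv.ofBijective _ ⟨hinj, q.subgroupMap_surjective _⟩)
    obtain ⟨t, ht, hcls⟩ := exists_odd_rep (X := G ⧸ N) inferInstance
      (CfsgLib.Base.pPrimeCore_quotient_pPrimeCore 2 G) S' hS'
    obtain ⟨t, rfl⟩ := hq t
    refine blockRank_le_two Nat.prime_two N θ (fun g => (hTmem g).1 (htop ▸ Subgroup.mem_top g)) t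
      ((QuotientGroup.eq_one_iff _).1 (by rw [← ht]; exact (map_pow q t 3))) (fun g hg => ?_) B
      (fun χ' hχ' => by rw [hBeq] at hχ'; exact hχ')
    obtain ⟨d, hd⟩ := hcls (q g) fun h => hg (h.trans (orderOf_map_dvd q g))
    obtain ⟨d, rfl⟩ := hq d
    refine ⟨d, ?_⟩
    rcases hd with hd | hd
    · left
      rw [← QuotientGroup.eq_one_iff]
      rw [← hd]; simp [q]
    · right
      rw [← QuotientGroup.eq_one_iff]
      have hd' : q (d * g * d⁻¹) = q t := by simpa using hd
      show q (t⁻¹ * (d * g * d⁻¹)) = 1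
      rw [map_mul, map_inv, hd', inv_mul_cancel]
  · haveI := Fintype.ofFinite T
    have hNT : N ≤ T := fun m hm => by
      rw [hTmem]
      refine Subtype.ext (funext fun u => ?_)
      rw [coe_conjIrr, CharsMore.conjFn]
      have e : CharsMore.conjBy N m u = (⟨m, hm⟩ : N) * u * (⟨m, hm⟩ : N)⁻¹ :=
        Subtype.ext (by simp)
      rw [e]
      exact isClassFunction_irr θ _ _
    obtain ⟨ψ, hψ, he⟩ := exists_overBlock_indFun_eq hT' hb hNT (χ := χ)
      ⟨θ, Set.mem_singleton θ, hθ⟩
    have hB' := isPBlock_blockOf (M := M) ψ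
    have hind := isInducedBlock_indFun hT' hb hNT hB' (mem_blockOf_self ψ) hψ
    rw [he, ← IsPBlock.eq_blockOf hB hχ] at hind
    set B' := blockOf M (ψ : T → ℂ) with hB'def
    have hiff := mem_induced_iff hT' hb hNT hB' (mem_blockOf_self ψ) hψ hind
    have hov : ∀ ψ' ∈ B', OverBlock hNT ({θ} : Set (IrrCharacter N)) (ψ' : T → ℂ) :=
      fun ψ' hψ' => OverBlock.of_sameBlock hT' hb hNT
        (IsPBlock.sameBlock hB' (mem_blockOf_self ψ) hψ') hψ
    have hlle : blockRank 2 B ≤ blockRank 2 B' :=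
      RankGap.blockRank_le_of_indFun T fun χ' hχ' => (hiff χ').1 hχ'
    have hlt : Nat.card T < n := hn ▸ lt_of_le_of_ne (Subgroup.card_le_card_group _)
      fun h => htop ((Subgroup.card_eq_iff_eq_top _).1 h)
    obtain ⟨D', hD'⟩ := exists_isDefectGroup (p := 2) hB'
    obtain ⟨E, hE, hle⟩ := IsInducedBlock.exists_defect_le hpM hind hD'
    have hdef : blockDefect 2 B = blockDefect 2 B' := by
      have hdeg : ∀ χ' : IrrCharacter G, ∀ ψ' : IrrCharacter T,
          (χ' : G → ℂ) = indFun T (ψ' : T → ℂ) →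
          BlockOrth.degVal 2 χ' = T.index.factorization 2 + BlockOrth.degVal 2 ψ' := by
        intro χ' ψ' he'
        have : charDegree (χ' : G → ℂ) = T.index * charDegree (ψ' : T → ℂ) := by
          have h := BlockOrth.irr_apply_one χ'
          rw [he', indFun_one_apply, BlockOrth.irr_apply_one, ← he'] at h
          exact_mod_cast h.symm
        rw [BlockOrth.degVal, this, Nat.factorization_mul Subgroup.index_ne_zero_of_finite
          (BlockOrth.irr_charDegree_ne_zero ψ')]
        rfl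
      obtain ⟨χ₁, hχ₁, hχm⟩ := BlockOrth.exists_degVal_eq_blockMin (p := 2) (IsPBlock.nonempty hB)
      obtain ⟨ψ₁, hψ₁, he₁⟩ := (hiff χ₁).1 hχ₁
      obtain ⟨ψ₂, hψ₂, hψm⟩ :=
        BlockOrth.exists_degVal_eq_blockMin (p := 2) (IsPBlock.nonempty hB')
      have h1 := BlockOrth.blockMin_le (p := 2) hψ₁
      have hmem := (hiff ⟨_, isIrr_indFun_of_overBlock hT' hb hNT (hov _ hψ₂)⟩).2 ⟨ψ₂, hψ₂, rfl⟩
      have h2 := BlockOrth.blockMin_le (p := 2) hmem
      rw [hdeg ⟨_, isIrr_indFun_of_overBlock hT' hb hNT (hov _ hψ₂)⟩ ψ₂ rfl] at h2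
      rw [hdeg χ₁ ψ₁ he₁] at hχm
      rw [BlockOrth.blockDefect_eq, BlockOrth.blockDefect_eq, ← T.index_mul_card,
        Nat.factorization_mul Subgroup.index_ne_zero_of_finite Nat.card_pos.ne', Finsupp.add_apply]
      omega
    have hEc : Nat.card (D'.map T.subtype) = Nat.card E := by
      rw [Subgroup.card_map_of_injective T.subtype_injective,
        BlockOrth.card_defectGroup hpM hB' hD', BlockOrth.card_defectGroup hpM hB hE, hdef]
    obtain ⟨c, hc⟩ := IsDefectGroup.exists_conj_eq hpM hB hD hE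
    have hshape' : DShape D' := by
      refine DShape.congr (D'.equivMapOfInjective _ T.subtype_injective).symm ?_
      rw [Subgroup.eq_of_le_of_card_ge hle hEc.ge, ← hc]
      exact hshape.congr (D.equivMapOfInjective _ (MulAut.conj c).injective)
    exact hlle.trans (ih _ hlt (G := T) rfl hM inferInstance B' hB' D' hD' hshape')

end CfsgLib.Blocks.SmallRankTwo
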