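import Cfsg.Agent.Lib.CharsMore.Gallagher
import Cfsg.Agent.Lib.CharsMore.Clifford
import Cfsg.Agent.Lib.Blocks.Covering
import Cfsg.Agent.Lib.Blocks.PSolvableFong
import Cfsg.Agent.Lib.BlockOrth.Integrality

/-!
# The regular rank over an invariant character of a normal subgroup with few regular classes

If every regular element is conjugate into `N ∪ tN` with `t ^ 3 ∈ N`, the characters over an
invariant character of `N` span at most two dimensions on the regular elements.
-/

set_option autoImplicit false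
set_option linter.unusedSectionVars false
set_option linter.style.haveILetI false

namespace CfsgLib.Blocks.SmallRankTwo

open Cfsg Chars CfsgLib.Blocks BlockOrth
open scoped ComplexConjugate

universe u

variable {G : Type u} [Group G] [Fintype G]

/-- An invariant character extends to an overgroup of index at most three. -/
theorem exists_extension_small {K : Type u} [Group K] [Fintype K] (N : Subgroup K) [N.Normal]
    [Fintype N] (θ : IrrCharacter N)
    (hinv : ∀ g, CharsMore.conjFn N g (θ : N → ℂ) = (θ : N → ℂ)) (hidx : N.index ≤ 3) :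
    ∃ η : IrrCharacter K, (fun n : N => (η : K → ℂ) n) = (θ : N → ℂ) := by
  classical
  haveI := irrFintype K
  obtain ⟨η, hη⟩ := exists_character_over (G := K) N θ
  refine ⟨η, ?_⟩
  obtain ⟨m, hm⟩ := inner_char_nat (isCharacter_restrict N (isCharacter_of_irr η.2))
    (isCharacter_of_irr θ.2)
  have hres : (fun n : N => (η : K → ℂ) n) = (m : ℂ) • (θ : N → ℂ) := by
    have h := CharsMore.clifford N η.2 θ.2 hη
    rwa [show CharsMore.orbitFn N (θ : N → ℂ) = {(θ : N → ℂ)} from Finset.ext fun φ => by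
      rw [CharsMore.mem_orbitFn, Finset.mem_singleton]
      exact ⟨fun ⟨g, hg⟩ => hg.symm.trans (hinv g), fun h => ⟨1, (hinv 1).trans h.symm⟩⟩,
      Finset.sum_singleton, hm] at h
  have hm0 : m ≠ 0 := fun h => hη (by rw [hm, h, Nat.cast_zero])
  set F := indFun N (θ : N → ℂ)
  have hF := CharsMore.inner_indFun_self_of_invariant N θ.2 hinv
  have hc : ∀ χ : IrrCharacter K, ∃ k : ℕ, classInner F (χ : K → ℂ) = k := fun χ =>
    inner_char_nat (isCharacter_indFun N (isCharacter_of_irr θ.2)) (isCharacter_of_irr χ.2)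
  choose k hk using hc
  have hsum : (N.index : ℂ) = ∑ χ : IrrCharacter K, ((k χ : ℂ)) ^ 2 := by
    rw [← hF]
    conv_lhs => arg 1; rw [classFun_eq_sum (isClassFunction_indFun N _)]
    rw [Chars.inner_sum_left]
    refine Finset.sum_congr rfl fun χ _ => ?_
    rw [Chars.inner_smul_left, ← Chars.inner_conj F, hk, map_natCast, sq]
  have hkη : k η = m := by
    have h : classInner F (η : K → ℂ) = (m : ℂ) := by
      rw [Chars.inner_indFun N _ (isClassFunction_irr η),
        CharsMore.conj_inner (isCharacter_restrict N (isCharacter_of_irr η.2))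
          (isCharacter_of_irr θ.2), hm]
    exact_mod_cast (hk η).symm.trans h
  have hle : k η ^ 2 ≤ N.index := by
    have h2 : N.index = ∑ χ : IrrCharacter K, k χ ^ 2 := by exact_mod_cast hsum
    rw [h2]
    exact Finset.single_le_sum (f := fun χ => k χ ^ 2) (fun _ _ => Nat.zero_le _) (Finset.mem_univ η)
  have hm1 : m = 1 := by
    rw [hkη] at hle
    nlinarith [Nat.pos_of_ne_zero hm0]
  rw [hres, hm1, Nat.cast_one, one_smul]

/-- The characters over an invariant character span at most two dimensions on regular elements. -/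
theorem blockRank_le_two {p : ℕ} (hp : p.Prime) (N : Subgroup G) [N.Normal] [Fintype N] (θ : IrrCharacter N)
    (hinv : ∀ g : G, conjIrr N g θ = θ) (t : G) (ht : t ^ 3 ∈ N)
    (hcls : ∀ g : G, IsPRegular p g → ∃ c : G, c * g * c⁻¹ ∈ N ∨ t⁻¹ * (c * g * c⁻¹) ∈ N)
    (B : Set (IrrCharacter G))
    (hB : ∀ χ ∈ B, classInner (fun n : N => (χ : G → ℂ) n) (θ : N → ℂ) ≠ 0) :
    blockRank p B ≤ 2 := by
  classical
  haveI := irrFintype G
  let K : Subgroup G := N ⊔ Subgroup.zpowers t
  haveI := Fintype.ofFinite K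
  haveI := irrFintype K
  haveI := Fintype.ofFinite (N.subgroupOf K)
  have hNK : N ≤ K := le_sup_left
  have htK : t ∈ K := le_sup_right (a := N) (Subgroup.mem_zpowers t)
  have hcov : ∀ k ∈ K, k ∈ N ∨ t⁻¹ * k ∈ N ∨ (t ^ 2)⁻¹ * k ∈ N := by
    intro k hk
    obtain ⟨n, hn, w, hw, rfl⟩ := Subgroup.mem_sup_of_normal_left.1 hk
    obtain ⟨i, rfl⟩ := Subgroup.mem_zpowers_iff.1 hw
    have key : (t ^ (i % 3 : ℤ))⁻¹ * (n * t ^ i) ∈ N := by
      rw [show t ^ i = t ^ (i % 3 : ℤ) * (t ^ (3 : ℕ)) ^ (i / 3 : ℤ) from by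
        rw [← zpow_natCast t 3, ← zpow_mul, ← zpow_add, Nat.cast_ofNat]
        congr 1
        omega]
      rw [← mul_assoc, ← mul_assoc]
      refine mul_mem ?_ (zpow_mem ht _)
      simpa using Subgroup.Normal.conj_mem inferInstance n hn (t ^ (i % 3 : ℤ))⁻¹
    rcases (show i % 3 = 0 ∨ i % 3 = 1 ∨ i % 3 = 2 by omega) with h | h | h <;> rw [h] at key
    · left; simpa using key
    · right; left; simpa using key
    · right; right
      rwa [show t ^ (2 : ℤ) = t ^ 2 from zpow_natCast t 2] at key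
  let e := Subgroup.subgroupOfEquivOfLe hNK
  let θ' : IrrCharacter (N.subgroupOf K) := pullIrr e θ
  have hidx : (N.subgroupOf K).index ≤ 3 := by
    rw [Subgroup.index_eq_card]
    refine (Nat.card_le_card_of_surjective
      (fun i : Fin 3 => ((⟨t, htK⟩ : K) ^ (i : ℕ) : K ⧸ N.subgroupOf K)) fun q => ?_).trans_eq
      (Nat.card_fin 3)
    obtain ⟨⟨k, hk⟩, rfl⟩ := QuotientGroup.mk_surjective q
    rcases hcov k hk with h | h | h
    · exact ⟨0, QuotientGroup.eq.2 (by simpa [Subgroup.mem_subgroupOf] using h)⟩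
    · exact ⟨1, QuotientGroup.eq.2 (by simpa [Subgroup.mem_subgroupOf] using h)⟩
    · exact ⟨2, QuotientGroup.eq.2 (by simpa [Subgroup.mem_subgroupOf] using h)⟩
  have hinv' : ∀ g : K, CharsMore.conjFn (N.subgroupOf K) g (θ' : N.subgroupOf K → ℂ) = θ' := by
    intro g
    funext u
    have h1 := congrFun (congrArg Subtype.val (hinv (g : G))) (e u)
    rw [coe_conjIrr] at h1
    simp only [CharsMore.conjFn, θ', pullIrr_apply] at h1 ⊢
    refine Eq.trans (congrArg _ (Subtype.ext ?_)) h1
    simp [e, Subgroup.subgroupOfEquivOfLe_apply_coe]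
  obtain ⟨η, hη⟩ := exists_extension_small (N.subgroupOf K) θ' hinv' hidx
  -- values on `K`
  let P : (G → ℂ) → Prop := fun f =>
    ∃ a : K → ℂ, (∀ n ∈ N.subgroupOf K, ∀ k, a (n * k) = a k) ∧
      ∀ k : K, IsPRegular p (k : G) → f k = a k * (η : K → ℂ) k
  have hchar : ∀ χ ∈ B, P (pRegularPart p (χ : G → ℂ)) := by
    intro χ hχ
    have hχK := isClassFunction_restrict K (isClassFunction_irr χ)
    have hover : ∀ ψ : IrrCharacter K, classInner (fun k : K => (χ : G → ℂ) k) (ψ : K → ℂ) ≠ 0 →
        ∃ β ∈ CharsMore.quotIrr (N.subgroupOf K), (ψ : K → ℂ) = (β : K → ℂ) * η := by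
      intro ψ hψ
      refine CharsMore.gallagher_exists (N.subgroupOf K) η.2 (hη ▸ θ'.2) ψ.2 ?_
      rw [hη]
      obtain ⟨φ, hφ⟩ := exists_constituent_restrict (N.subgroupOf K) ψ
      have h1 := constituent_trans K (Subgroup.inclusion hNK) (φ := pullIrr e.symm φ) hψ (by
        intro h0
        apply hφ
        rw [Chars.inner_def] at h0 ⊢
        rw [← h0, Nat.card_congr e.toEquiv, ← Equiv.sum_comp e.toEquiv]
        refine congrArg _ (Finset.sum_congr rfl fun u _ => ?_)
        simp [pullIrr_apply, e, Subgroup.inclusion])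
      have hφe : pullIrr e.symm φ = θ := by
        by_contra hne
        apply h1
        have h2 := CharsMore.clifford N χ.2 θ.2 (hB χ hχ)
        rw [show CharsMore.orbitFn N (θ : N → ℂ) = {(θ : N → ℂ)} from Finset.ext fun φ => by
          rw [CharsMore.mem_orbitFn, Finset.mem_singleton]
          refine ⟨fun ⟨g, hg⟩ => hg.symm.trans ?_, fun h => ⟨1, ?_⟩⟩
          · rw [← coe_conjIrr, hinv]
          · rw [h, ← coe_conjIrr, hinv], Finset.sum_singleton] at h2
        show classInner (fun n : N => (χ : G → ℂ) n) _ = 0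
        rw [h2, Chars.inner_smul_left, Chars.inner_irr, if_neg (fun h => hne h.symm), mul_zero]
      intro h
      apply hφ
      rw [show φ = θ' from by rw [← pullIrr_symm e φ]; simp [θ', ← hφe, pullIrr_symm]]
      exact h
    refine ⟨fun k => ∑ ψ : IrrCharacter K,
      if h : classInner (fun k : K => (χ : G → ℂ) k) (ψ : K → ℂ) ≠ 0 then
        classInner (fun k : K => (χ : G → ℂ) k) (ψ : K → ℂ) * ((hover ψ h).choose : K → ℂ) k
      else 0, fun n hn k => Finset.sum_congr rfl fun ψ _ => ?_, fun k hk => ?_⟩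
    · split_ifs with h
      · rw [CharsMore.quotIrr_mul (N.subgroupOf K) (hover ψ h).choose_spec.1 ⟨n, hn⟩ k]
      · rfl
    · rw [pRegularPart_apply, if_pos (show ¬ p ∣ orderOf (k : G) from hk), Finset.sum_mul]
      have := congrFun (classFun_eq_sum hχK) k
      rw [Finset.sum_apply] at this
      rw [this]
      refine Finset.sum_congr rfl fun ψ _ => ?_
      split_ifs with h
      · rw [Pi.smul_apply, smul_eq_mul, congrFun (hover ψ h).choose_spec.2 k, Pi.mul_apply, mul_assoc]
      · rw [Pi.smul_apply, not_not.1 h, zero_smul, zero_mul]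
  -- the two coordinates
  set V := Submodule.span ℂ ((fun χ : IrrCharacter G => pRegularPart p (χ : G → ℂ)) '' B)
  have hV : ∀ f ∈ V, IsClassFunction G f ∧ (∀ g, ¬ IsPRegular p g → f g = 0) ∧ P f := by
    intro f hf
    induction hf using Submodule.span_induction with
    | mem f hf =>
      obtain ⟨χ, hχ, rfl⟩ := hf
      exact ⟨isClassFunction_pRegularPart (isClassFunction_irr χ),
        fun g hg => by simp [pRegularPart, hg], hchar χ hχ⟩
    | zero => exact ⟨fun _ _ => rfl, fun _ _ => rfl, 0, fun _ _ _ => rfl, fun _ _ => by simp⟩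
    | add f g _ _ hf hg =>
      obtain ⟨h1, h2, a, ha, ha'⟩ := hf
      obtain ⟨k1, k2, b, hb, hb'⟩ := hg
      refine ⟨fun x y => by simp [h1 x y, k1 x y], fun x hx => by simp [h2 x hx, k2 x hx], a + b,
        fun n hn k => by simp [ha n hn k, hb n hn k], fun k hk => ?_⟩
      simp [ha' k hk, hb' k hk, add_mul]
    | smul c f _ hf =>
      obtain ⟨h1, h2, a, ha, ha'⟩ := hf
      refine ⟨fun x y => by simp [h1 x y], fun x hx => by simp [h2 x hx], c • a,
        fun n hn k => by simp [ha n hn k], fun k hk => ?_⟩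
      simp [ha' k hk, mul_assoc]
  obtain ⟨k₀, hk₀⟩ : ∃ k₀ : K, (∃ k : K, t⁻¹ * (k : G) ∈ N ∧ IsPRegular p (k : G) ∧ (η : K → ℂ) k ≠ 0) →
      t⁻¹ * (k₀ : G) ∈ N ∧ IsPRegular p (k₀ : G) ∧ (η : K → ℂ) k₀ ≠ 0 := by
    by_cases h : ∃ k : K, t⁻¹ * (k : G) ∈ N ∧ IsPRegular p (k : G) ∧ (η : K → ℂ) k ≠ 0
    · exact ⟨h.choose, fun _ => h.choose_spec⟩
    · exact ⟨1, fun h' => absurd h' h⟩
  let Φ : (G → ℂ) →ₗ[ℂ] ℂ × ℂ :=
    { toFun := fun f => (f 1, f k₀)
      map_add' := fun _ _ => rfl
      map_smul' := fun _ _ => rfl }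
  have hinj : Function.Injective (Φ.domRestrict V) := by
    rw [← LinearMap.ker_eq_bot, LinearMap.ker_eq_bot']
    rintro ⟨f, hf⟩ hΦ
    obtain ⟨hcl, hsupp, a, ha, ha'⟩ := hV f hf
    have hf1 : f 1 = 0 := congrArg Prod.fst hΦ
    have hf0 : f k₀ = 0 := congrArg Prod.snd hΦ
    have ha1 : a 1 = 0 := by
      have h := ha' 1 (by simp [IsPRegular, hp.ne_one])
      rw [Subgroup.coe_one, hf1] at h
      exact (mul_eq_zero.1 h.symm).resolve_right (irr_degree_ne_zero η.2)
    have hKzero : ∀ k : K, IsPRegular p (k : G) → ((k : G) ∈ N ∨ t⁻¹ * (k : G) ∈ N) → f k = 0 := by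
      intro k hk h
      rw [ha' k hk]
      rcases h with h | h
      · rw [← mul_one k, ha k (Subgroup.mem_subgroupOf.2 h) 1, ha1, zero_mul]
      · by_cases hz : (η : K → ℂ) k = 0
        · rw [hz, mul_zero]
        obtain ⟨h1, h2, h3⟩ := hk₀ ⟨k, h, hk, hz⟩
        have hmem : k * k₀⁻¹ ∈ N.subgroupOf K := by
          rw [Subgroup.mem_subgroupOf]
          have := Subgroup.Normal.conj_mem inferInstance _
            (mul_mem h (inv_mem h1)) t
          simpa [mul_assoc] using this
        have h4 := ha' k₀ h2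
        rw [hf0] at h4
        have h5 : a k₀ = 0 := (mul_eq_zero.1 h4.symm).resolve_right h3
        rw [← inv_mul_cancel_right k k₀, ha _ hmem k₀, h5, zero_mul]
    refine Subtype.ext (funext fun g => ?_)
    show f g = 0
    by_cases hg : IsPRegular p g
    · obtain ⟨c, hc⟩ := hcls g hg
      have hK' : c * g * c⁻¹ ∈ K := by
        rcases hc with h | h
        · exact hNK h
        · have := mul_mem htK (hNK h)
          simpa using this
      have hreg : IsPRegular p (c * g * c⁻¹) := by
        rw [IsPRegular] at hg ⊢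
        rwa [show c * g * c⁻¹ = MulAut.conj c g from rfl, MulEquiv.orderOf_eq]
      rw [← hcl g c]
      exact hKzero ⟨_, hK'⟩ hreg hc
    · exact hsupp g hg
  refine (Nat.le_of_eq rfl).trans ((LinearMap.finrank_le_finrank_of_injective hinj).trans ?_)
  simp [Module.finrank_prod]

end CfsgLib.Blocks.SmallRankTwo
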